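import Groth.Agent.EtDual.K3.PurePt
import Groth.Agent.S0547
import Groth.Agent.S0548
import Mathlib.RingTheory.AdicCompletion.LocalRing

/-!
# Punctual purity for `A` and its completion, from `DivPure`
-/

set_option autoImplicit false
universe u
open CategoryTheory CategoryTheory.Limits AlgebraicGeometry Opposite
open EtDual

namespace K3.Cor142

open Groth.Agent K3.DivDef

theorem main (hP : ∀ n : ℕ, 0 < n → DivPure.{u} n) (A : Type u) [CommRing A] [IsRegularLocalRing A]
    (d : ℕ) (hd : ringKrullDim A = d)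
    (n : ℕ) (hn0 : 0 < n) (hn : IsUnit (n : A))
    {U : Scheme.{u}} (j : U ⟶ Spec (CommRingCat.of A)) [IsOpenImmersion j]
    (hU : ∀ x : PrimeSpectrum A, x ∈ Set.range j.base ↔ x ≠ IsLocalRing.closedPoint A)
    {U' : Scheme.{u}} (j' : U' ⟶ Spec (CommRingCat.of (AdicCompletion (IsLocalRing.maximalIdeal A) A)))
    [IsOpenImmersion j']
    (hU' : ∀ x : PrimeSpectrum (AdicCompletion (IsLocalRing.maximalIdeal A) A), x ∈ Set.range j'.base ↔
      x ≠ IsLocalRing.closedPoint (AdicCompletion (IsLocalRing.maximalIdeal A) A)) :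
    ((∀ q : ℕ, q ≠ 2 * d → IsZero ((EtDual.locCoh j q).obj (EtCoh.const (Spec (CommRingCat.of A)) (ZMod n)))) ∧
      Nonempty ((EtDual.locCoh j (2 * d)).obj (EtDual.tate (Spec (CommRingCat.of A)) n d) ≅
        (EtCoh.push (Spec.map (CommRingCat.ofHom (IsLocalRing.residue A)))).obj
          (EtCoh.const (Spec (CommRingCat.of (IsLocalRing.ResidueField A))) (ZMod n)))) ↔
    ((∀ q : ℕ, q ≠ 2 * d → IsZero ((EtDual.locCoh j' q).obj
        (EtCoh.const (Spec (CommRingCat.of (AdicCompletion (IsLocalRing.maximalIdeal A) A))) (ZMod n)))) ∧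
      Nonempty ((EtDual.locCoh j' (2 * d)).obj
          (EtDual.tate (Spec (CommRingCat.of (AdicCompletion (IsLocalRing.maximalIdeal A) A))) n d) ≅
        (EtCoh.push (Spec.map (CommRingCat.ofHom (IsLocalRing.residue (AdicCompletion (IsLocalRing.maximalIdeal A) A))))).obj
          (EtCoh.const (Spec (CommRingCat.of (IsLocalRing.ResidueField (AdicCompletion (IsLocalRing.maximalIdeal A) A))))
            (ZMod n)))) := by
  have hR : IsRegularLocalRing (AdicCompletion (IsLocalRing.maximalIdeal A) A) :=
    (Groth.Agent.S0548.result A).1 inferInstance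
  have hd' : ringKrullDim (AdicCompletion (IsLocalRing.maximalIdeal A) A) = d := by
    rw [Groth.Agent.S0547.result A, hd]
  have hn' : IsUnit (n : AdicCompletion (IsLocalRing.maximalIdeal A) A) := by
    have := hn.map (algebraMap A (AdicCompletion (IsLocalRing.maximalIdeal A) A))
    rwa [map_natCast] at this
  exact iff_of_true (PurePt.punct hP A d hd n hn0 hn j hU)
    (PurePt.punct hP (AdicCompletion (IsLocalRing.maximalIdeal A) A) d hd' n hn0 hn' j' hU')

end K3.Cor142
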