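import Groth.Prelude.Def_EtBase
import Groth.Prelude.Def_EtDual
import Mathlib.RingTheory.RegularLocalRing.Defs
import Mathlib.RingTheory.Localization.Away.Basic
import Mathlib.Data.ZMod.Defs

/-!
# Interface: purity in codimension one for strictly henselian regular local rings

`DivPure n`: for every strictly henselian regular local ring `A` with `n ∈ Aˣ` and every `t ∈ 𝔪 ∖ 𝔪²`,
`H^q(Spec A[1/t], ℤ/n) = 0` for `q ≥ 2`.
-/

set_option autoImplicit false
universe u
open CategoryTheory CategoryTheory.Limits AlgebraicGeometry Opposite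

namespace K3.DivDef

/-- Purity in codimension one for one ring `A`: `H^q(Spec A[1/t], ℤ/n) = 0` for `t ∈ 𝔪 ∖ 𝔪²` and `q ≥ 2`. -/
def DivPureAt (n : ℕ) (A : Type u) [CommRing A] [IsLocalRing A] : Prop :=
  ∀ t : A, t ∈ IsLocalRing.maximalIdeal A → t ∉ IsLocalRing.maximalIdeal A ^ 2 → ∀ q : ℕ, 2 ≤ q →
    Subsingleton (EtCoh.H (Spec (CommRingCat.of (Localization.Away t)))
      (EtCoh.const (Spec (CommRingCat.of (Localization.Away t))) (ZMod n)) q)

/-- Purity in codimension one for all strictly henselian regular local rings in which `n` is invertible. -/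
def DivPure (n : ℕ) : Prop :=
  ∀ (A : Type u) [CommRing A] [IsRegularLocalRing A], EtCoh.IsStrictlyHenselianLocalRing A → IsUnit (n : A) →
    DivPureAt n A

end K3.DivDef
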