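import Groth.Agent.EtDual.K3.PureVan
import Groth.Agent.S14625
import Groth.Agent.Dix.K281.ClosedPush
import Groth.Prelude.Def_FEt

/-!
# Higher direct images of `ℤ/n` along the complement of a regular divisor, over a strictly henselian base

General statements `nonempty_push`, `nonempty_Rpush_one`, `isZero_Rpush`, and the special cases of the divisor
`V(t)` in `Spec A` and in the punctured spectrum of `A`, for `A` strictly henselian regular local and
`t ∈ 𝔪 ∖ 𝔪²`.
-/

set_option autoImplicit false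
universe u
open CategoryTheory CategoryTheory.Limits AlgebraicGeometry Opposite IsLocalRing

namespace K3.DivPunc

open Groth.Agent K3.DivDef K3.PureVan

section General

variable {A : Type u} [CommRing A] (hA : EtCoh.IsStrictlyHenselianLocalRing A) {n : ℕ} (hn0 : 0 < n)
  (hn : IsUnit (n : A)) {X D U : Scheme.{u}} [IsLocallyNoetherian X] (f : X ⟶ Spec (CommRingCat.of A))
  (hXreg : ∀ x : X, IsRegularLocalRing (X.presheaf.stalk x))
  (i : D ⟶ X) [IsClosedImmersion i] (hDreg : ∀ y : D, IsRegularLocalRing (D.presheaf.stalk y))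
  (hcodim : ∀ y : D, ringKrullDim (X.presheaf.stalk (i y)) = ringKrullDim (D.presheaf.stalk y) + 1)
  (j : U ⟶ X) [IsOpenImmersion j] (hU : Set.range j = (Set.range i)ᶜ)

include hn f in
omit [IsLocallyNoetherian X] in
theorem isUnit_Γ : IsUnit (n : Γ(X, ⊤)) := by
  have h := hn.map ((f.appTop.hom).comp (Scheme.ΓSpecIso (CommRingCat.of A)).inv.hom)
  rwa [map_natCast] at h

include hn f hXreg hDreg hcodim hU

/-- `j_* ℤ/n = ℤ/n`. -/
theorem nonempty_push : Nonempty ((EtCoh.push j).obj (EtCoh.const U (ZMod n)) ≅ EtCoh.const X (ZMod n)) := by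
  have h := isIso_unitApp_div hXreg (isUnit_Γ hn f) i hDreg hcodim j hU
  exact ⟨(EtCoh.push j).mapIso (Sga4B.Pure.pullConst j (ZMod n)).symm ≪≫
    (asIso (EtDual.unitApp j (EtCoh.const X (ZMod n)))).symm⟩

include hA hn0

/-- `R¹ j_* ℤ/n = i_* ℤ/n`. -/
theorem nonempty_Rpush_one : Nonempty ((EtCoh.Rpush j 1).obj (EtCoh.const U (ZMod n)) ≅
    (EtCoh.push i).obj (EtCoh.const D (ZMod n))) := by
  obtain ⟨-, -, ⟨e⟩⟩ := div_mu_low hXreg (isUnit_Γ hn f) i hDreg hcodim j hU
  obtain ⟨m⟩ := Groth.Agent.S14625.result A hA n hn0 hn X f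
  exact ⟨(EtCoh.Rpush j 1).mapIso (Sga4B.Pure.pullConst j (ZMod n)).symm ≪≫
    Sga4h.LocCohLES.locCohSuccIso j (EtCoh.const X (ZMod n)) 0 ≪≫ (EtDual.locCoh j 2).mapIso m.symm ≪≫ e⟩

omit hA hn0 in
/-- `R^q j_* ℤ/n = 0` for `q ≥ 2`, from `DivPureAt` for the strictly henselian regular local rings of the dimensions
of `X` at the points of the divisor. -/
theorem isZero_Rpush (IH : ∀ (B : Type u) [CommRing B] [IsRegularLocalRing B],
      EtCoh.IsStrictlyHenselianLocalRing B → IsUnit (n : B) →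
      (∃ y : D, ringKrullDim B = ringKrullDim (X.presheaf.stalk (i y))) → DivPureAt n B)
    (q : ℕ) (hq : 2 ≤ q) : IsZero ((EtCoh.Rpush j q).obj (EtCoh.const U (ZMod n))) :=
  DivStalk.isZero_Rpush_of_locPure i (fun y R _ _ _ _ _ hsh hd => IH R hsh
    (Sga4h.X144LocCore.isUnit_of_isUnit n (isUnit_Γ hn f) (i y) R) ⟨y, hd⟩)
    (fun _ => hXreg _) hDreg hcodim j hU q hq

end General

/-- `H^q(X, i_* F) = H^q(Z, F)` for a closed immersion. -/
theorem nonempty_H_push {Z X : Scheme.{u}} (i : Z ⟶ X) [IsClosedImmersion i] (F : EtCoh.Ab Z) (q : ℕ) :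
    Nonempty (EtCoh.H X ((EtCoh.push i).obj F) q ≃+ EtCoh.H Z F q) := by
  have h : PreservesFiniteLimits (EtCoh.pull i) := inferInstance
  exact ⟨AddEquiv.ofBijective (EtLim.HofPush i F q) (K281.ClosedPush.HofPush_bijective i F q)⟩

section Spec

/-- The open immersion of the complement of `V(t)`. -/
noncomputable abbrev opn {R : Type u} [CommRing R] (t : R) :
    Spec (CommRingCat.of (Localization.Away t)) ⟶ Spec (CommRingCat.of R) :=
  Spec.map (CommRingCat.ofHom (algebraMap R (Localization.Away t)))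

theorem mem_range_opn {R : Type u} [CommRing R] (t : R) (z : Spec (CommRingCat.of R)) :
    z ∈ Set.range (opn t) ↔ t ∉ z.asIdeal := by
  have h2 : Set.range (opn t) = (PrimeSpectrum.basicOpen t : Set (PrimeSpectrum R)) :=
    PrimeSpectrum.localization_away_comap_range _ _
  rw [h2]
  rfl

theorem range_opn {R : Type u} [CommRing R] (t : R) : Set.range (opn t) = (Set.range (clo t))ᶜ := by
  ext z
  rw [mem_range_opn, Set.mem_compl_iff, range_clo]

variable {A : Type u} [CommRing A] [IsRegularLocalRing A] (t : A)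

theorem mem_puncturedSpec {B : Type u} [CommRing B] [IsLocalRing B] (z : Spec (CommRingCat.of B)) :
    z ∈ FEt.puncturedSpec B ↔ z ≠ closedPoint B := Iff.rfl

theorem range_punc (B : Type u) [CommRing B] [IsLocalRing B] :
    Set.range (FEt.puncturedSpec B).ι = {closedPoint B}ᶜ := Scheme.Opens.range_ι _

variable [IsRegularLocalRing (A ⧸ Ideal.span {t})]

theorem clo_eq_closedPoint_iff (y : Spec (CommRingCat.of (A ⧸ Ideal.span {t}))) :
    clo t y = closedPoint A ↔ y = closedPoint (A ⧸ Ideal.span {t}) := by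
  have hloc : IsLocalHom (Ideal.Quotient.mk (Ideal.span {t})) := IsLocalHom.of_surjective _ Ideal.Quotient.mk_surjective
  constructor
  · intro h
    have h1 : clo t y = clo t (closedPoint (A ⧸ Ideal.span {t})) := by
      rw [h]
      exact (comap_closedPoint (Ideal.Quotient.mk (Ideal.span {t}))).symm
    exact (clo t).isClosedEmbedding.injective h1
  · rintro rfl
    exact comap_closedPoint (Ideal.Quotient.mk (Ideal.span {t}))

theorem range_punc_quot : Set.range (FEt.puncturedSpec (A ⧸ Ideal.span {t})).ι =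
    clo t ⁻¹' Set.range (FEt.puncturedSpec A).ι := by
  rw [range_punc, range_punc]
  ext y
  exact not_congr (clo_eq_closedPoint_iff t y).symm

/-- The closed immersion of the punctured spectrum of `A/t` into the punctured spectrum of `A`. -/
noncomputable def iPunc : (FEt.puncturedSpec (A ⧸ Ideal.span {t}) : Scheme.{u}) ⟶ (FEt.puncturedSpec A : Scheme.{u}) :=
  (Sga4B.LocCohLocal.isPullback_of_range (FEt.puncturedSpec A).ι (clo t)
    (FEt.puncturedSpec (A ⧸ Ideal.span {t})).ι (range_punc_quot t)).choose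

theorem isPullback_iPunc : IsPullback (iPunc t) (FEt.puncturedSpec (A ⧸ Ideal.span {t})).ι
    (FEt.puncturedSpec A).ι (clo t) :=
  (Sga4B.LocCohLocal.isPullback_of_range (FEt.puncturedSpec A).ι (clo t)
    (FEt.puncturedSpec (A ⧸ Ideal.span {t})).ι (range_punc_quot t)).choose_spec

theorem iPunc_ι : iPunc t ≫ (FEt.puncturedSpec A).ι = (FEt.puncturedSpec (A ⧸ Ideal.span {t})).ι ≫ clo t :=
  (isPullback_iPunc t).w

instance : IsClosedImmersion (iPunc t) :=
  MorphismProperty.of_isPullback (P := @IsClosedImmersion) (isPullback_iPunc t).flip inferInstance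

omit [IsRegularLocalRing (A ⧸ Ideal.span {t})] in
theorem range_opn_subset (ht : t ∈ maximalIdeal A) : Set.range (opn t) ⊆ Set.range (FEt.puncturedSpec A).ι := by
  rw [range_punc]
  intro z hz
  rw [mem_range_opn] at hz
  rintro rfl
  exact hz ht

/-- The open immersion `Spec A[1/t] → U`. -/
noncomputable def aPunc (ht : t ∈ maximalIdeal A) :
    Spec (CommRingCat.of (Localization.Away t)) ⟶ (FEt.puncturedSpec A : Scheme.{u}) :=
  IsOpenImmersion.lift (FEt.puncturedSpec A).ι (opn t) (range_opn_subset t ht)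

omit [IsRegularLocalRing (A ⧸ Ideal.span {t})] in
theorem aPunc_ι (ht : t ∈ maximalIdeal A) : aPunc t ht ≫ (FEt.puncturedSpec A).ι = opn t :=
  IsOpenImmersion.lift_fac _ _ _

omit [IsRegularLocalRing (A ⧸ Ideal.span {t})] in
instance (ht : t ∈ maximalIdeal A) : IsOpenImmersion (aPunc t ht) := by
  have h : IsOpenImmersion (aPunc t ht ≫ (FEt.puncturedSpec A).ι) := by
    rw [aPunc_ι]
    infer_instance
  exact IsOpenImmersion.of_comp (aPunc t ht) (FEt.puncturedSpec A).ι

theorem range_aPunc (ht : t ∈ maximalIdeal A) : Set.range (aPunc t ht) = (Set.range (iPunc t))ᶜ := by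
  have hinj : Function.Injective (FEt.puncturedSpec A).ι := (FEt.puncturedSpec A).ι.isOpenEmbedding.injective
  ext z
  have h1 : z ∈ Set.range (aPunc t ht) ↔ t ∉ ((FEt.puncturedSpec A).ι z).asIdeal := by
    rw [← mem_range_opn, ← aPunc_ι t ht]
    constructor
    · rintro ⟨v, rfl⟩
      exact ⟨v, rfl⟩
    · rintro ⟨v, hv⟩
      exact ⟨v, hinj hv⟩
  have h2 : z ∈ Set.range (iPunc t) ↔ t ∈ ((FEt.puncturedSpec A).ι z).asIdeal := by
    rw [← range_clo]
    constructor
    · rintro ⟨v, rfl⟩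
      refine ⟨(FEt.puncturedSpec (A ⧸ Ideal.span {t})).ι v, ?_⟩
      rw [← Scheme.Hom.comp_apply, ← Scheme.Hom.comp_apply, iPunc_ι]
    · rintro ⟨v, hv⟩
      have hv1 : v ∈ Set.range (FEt.puncturedSpec (A ⧸ Ideal.span {t})).ι := by
        rw [range_punc_quot, Set.mem_preimage, hv]
        exact ⟨z, rfl⟩
      obtain ⟨w, rfl⟩ := hv1
      refine ⟨w, hinj ?_⟩
      rw [← hv, ← Scheme.Hom.comp_apply, ← Scheme.Hom.comp_apply, iPunc_ι]
  rw [h1, Set.mem_compl_iff, h2]

omit [IsRegularLocalRing (A ⧸ Ideal.span {t})] in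
theorem isRegularLocalRing_stalk_punc (x : (FEt.puncturedSpec A : Scheme.{u})) :
    IsRegularLocalRing ((FEt.puncturedSpec A : Scheme.{u}).presheaf.stalk x) := by
  have h := isRegularLocalRing_stalk A ((FEt.puncturedSpec A).ι x)
  exact IsRegularLocalRing.of_ringEquiv (asIso ((FEt.puncturedSpec A).ι.stalkMap x)).commRingCatIsoToRingEquiv

omit [IsRegularLocalRing A] [IsRegularLocalRing (A ⧸ Ideal.span {t})] in
theorem ringKrullDim_stalk_open {U X : Scheme.{u}} (j : U ⟶ X) [IsOpenImmersion j] (x : U) :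
    ringKrullDim (U.presheaf.stalk x) = ringKrullDim (X.presheaf.stalk (j x)) :=
  (ringKrullDim_eq_of_ringEquiv (asIso (j.stalkMap x)).commRingCatIsoToRingEquiv).symm

theorem codim_iPunc (ht0 : t ≠ 0) (y : (FEt.puncturedSpec (A ⧸ Ideal.span {t}) : Scheme.{u})) :
    ringKrullDim ((FEt.puncturedSpec A : Scheme.{u}).presheaf.stalk (iPunc t y)) =
      ringKrullDim ((FEt.puncturedSpec (A ⧸ Ideal.span {t}) : Scheme.{u}).presheaf.stalk y) + 1 := by
  rw [ringKrullDim_stalk_open (FEt.puncturedSpec A).ι, ringKrullDim_stalk_open (FEt.puncturedSpec (A ⧸ Ideal.span {t})).ι,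
    ← codim_clo t ht0, ← Scheme.Hom.comp_apply, iPunc_ι, Scheme.Hom.comp_apply]

omit [IsRegularLocalRing (A ⧸ Ideal.span {t})] in
/-- The local rings of the punctured spectrum have smaller dimension. -/
theorem ringKrullDim_stalk_punc_lt (x : (FEt.puncturedSpec A : Scheme.{u})) :
    ringKrullDim ((FEt.puncturedSpec A : Scheme.{u}).presheaf.stalk x) < ringKrullDim A := by
  rw [ringKrullDim_stalk_open (FEt.puncturedSpec A).ι]
  set z : PrimeSpectrum A := (FEt.puncturedSpec A).ι x with hz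
  have hne : z ≠ closedPoint A := by
    have h1 : (FEt.puncturedSpec A).ι x ∈ Set.range (FEt.puncturedSpec A).ι := ⟨x, rfl⟩
    rw [range_punc] at h1
    exact h1
  have h2 : ringKrullDim ((Spec (CommRingCat.of A)).presheaf.stalk z) = ringKrullDim (Localization.AtPrime z.asIdeal) :=
    (ringKrullDim_eq_of_ringEquiv (StructureSheaf.stalkIso A z).toRingEquiv).symm
  have h3 : z.asIdeal < maximalIdeal A := by
    refine lt_of_le_of_ne (le_maximalIdeal z.isPrime.ne_top) fun h => hne ?_
    ext1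
    exact h
  have h4 := Ideal.height_strict_mono_of_isPrime_of_isPrime h3
  have h5 := IsLocalization.AtPrime.ringKrullDim_eq_height z.asIdeal (Localization.AtPrime z.asIdeal)
  refine lt_of_eq_of_lt (h2.trans h5) ?_
  rw [← IsLocalRing.maximalIdeal_height_eq_ringKrullDim (R := A)]
  exact_mod_cast h4

variable (hA : EtCoh.IsStrictlyHenselianLocalRing A) (l : ℕ) (hl0 : 0 < l) (hl : IsUnit (l : A))
  (ht : t ∈ maximalIdeal A) (ht0 : t ≠ 0)

include hl ht0

/-- [6], `q = 0` -/
theorem nonempty_push_opn : Nonempty ((EtCoh.push (opn t)).obj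
    (EtCoh.const (Spec (CommRingCat.of (Localization.Away t))) (ZMod l)) ≅
      EtCoh.const (Spec (CommRingCat.of A)) (ZMod l)) :=
  nonempty_push hl (𝟙 _) (isRegularLocalRing_stalk A) (clo t) (isRegularLocalRing_stalk _) (codim_clo t ht0)
    (opn t) (range_opn t)

include hA hl0 in
/-- [6], `q = 1` -/
theorem nonempty_Rpush_one_opn : Nonempty ((EtCoh.Rpush (opn t) 1).obj
    (EtCoh.const (Spec (CommRingCat.of (Localization.Away t))) (ZMod l)) ≅
      (EtCoh.push (clo t)).obj (EtCoh.const (Spec (CommRingCat.of (A ⧸ Ideal.span {t}))) (ZMod l))) :=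
  nonempty_Rpush_one hA hl0 hl (𝟙 _) (isRegularLocalRing_stalk A) (clo t) (isRegularLocalRing_stalk _)
    (codim_clo t ht0) (opn t) (range_opn t)

/-- [2] -/
theorem nonempty_push_aPunc : Nonempty ((EtCoh.push (aPunc t ht)).obj
    (EtCoh.const (Spec (CommRingCat.of (Localization.Away t))) (ZMod l)) ≅
      EtCoh.const (FEt.puncturedSpec A : Scheme.{u}) (ZMod l)) :=
  nonempty_push hl (FEt.puncturedSpec A).ι isRegularLocalRing_stalk_punc (iPunc t) isRegularLocalRing_stalk_punc
    (codim_iPunc t ht0) (aPunc t ht) (range_aPunc t ht)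

include hA hl0 in
/-- [3] -/
theorem nonempty_Rpush_one_aPunc : Nonempty ((EtCoh.Rpush (aPunc t ht) 1).obj
    (EtCoh.const (Spec (CommRingCat.of (Localization.Away t))) (ZMod l)) ≅
      (EtCoh.push (iPunc t)).obj
        (EtCoh.const (FEt.puncturedSpec (A ⧸ Ideal.span {t}) : Scheme.{u}) (ZMod l))) :=
  nonempty_Rpush_one hA hl0 hl (FEt.puncturedSpec A).ι isRegularLocalRing_stalk_punc (iPunc t)
    isRegularLocalRing_stalk_punc (codim_iPunc t ht0) (aPunc t ht) (range_aPunc t ht)

/-- [4] -/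
theorem isZero_Rpush_aPunc (IH : ∀ (B : Type u) [CommRing B] [IsRegularLocalRing B],
      EtCoh.IsStrictlyHenselianLocalRing B → IsUnit (l : B) → ringKrullDim B < ringKrullDim A → DivPureAt l B)
    (q : ℕ) (hq : 2 ≤ q) : IsZero ((EtCoh.Rpush (aPunc t ht) q).obj
      (EtCoh.const (Spec (CommRingCat.of (Localization.Away t))) (ZMod l))) :=
  isZero_Rpush hl (FEt.puncturedSpec A).ι isRegularLocalRing_stalk_punc (iPunc t)
    isRegularLocalRing_stalk_punc (codim_iPunc t ht0) (aPunc t ht) (range_aPunc t ht)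
    (fun B _ _ hB hlB hd => IH B hB hlB (by
      obtain ⟨y, hy⟩ := hd
      rw [hy]
      exact ringKrullDim_stalk_punc_lt _)) q hq

end Spec

end K3.DivPunc
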