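import Groth.Agent.EtDual.K3.DivDef
import Groth.Agent.EtDl.K555.Params
import Groth.Agent.EtDl.K555.OpenSq
import Groth.Agent.EtDl.K555.ClosedStalk
import Groth.Agent.Sga4h.X144LocCore
import Groth.Agent.Sga4h.FinRedOC
import Groth.Agent.Etcore.Stalks
import Groth.Agent.Sga4B.Pure
import Groth.Agent.S0538
import Groth.Agent.S0539
import Groth.Agent.S0541
import Groth.Agent.S0620
import Groth.Agent.S2743

/-!
# Higher direct images of `ℤ/n` along the complement of a regular divisor, from `DivPure n`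

`isZero_Rpush`: `R^q j_* ℤ/n = 0` for `q ≥ 2`, `j` the open immersion of the complement of a regular divisor in a
locally Noetherian scheme regular along it.
-/

set_option autoImplicit false
universe u
open CategoryTheory CategoryTheory.Limits AlgebraicGeometry Opposite IsLocalRing

namespace K3.DivStalk

open Groth.Agent K3.DivDef K555

/-- The members of a regular system of parameters are not in the square of the maximal ideal. -/
theorem notMem_sq {R : Type u} [CommRing R] [IsRegularLocalRing R] {d : ℕ} (x : Fin d → R)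
    (hd : ringKrullDim R = d) (hx : Ideal.span (Set.range x) = maximalIdeal R) (i : Fin d) :
    x i ∉ maximalIdeal R ^ 2 := by
  intro h
  have h1 : maximalIdeal R ≤ Ideal.span (x '' {i}ᶜ) := by
    refine Submodule.le_of_le_smul_of_le_jacobson_bot (I := maximalIdeal R)
      (maximalIdeal R).fg_of_isNoetherianRing (maximalIdeal_le_jacobson _) ?_
    rw [smul_eq_mul, ← pow_two]
    conv_lhs => rw [← hx]
    rw [Ideal.span_le]
    rintro _ ⟨k, rfl⟩
    by_cases hk : k = i
    · rw [hk]; exact Ideal.mem_sup_right h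
    · exact Ideal.mem_sup_left (Ideal.subset_span ⟨k, hk, rfl⟩)
  have h2 : Ideal.span (x '' {i}ᶜ) = maximalIdeal R := by
    refine le_antisymm ?_ h1
    rw [← hx]
    exact Ideal.span_mono (Set.image_subset_range _ _)
  have h3 := IsRegularLocalRing.spanFinrank_maximalIdeal (R := R)
  have h5 : (x '' {i}ᶜ).ncard ≤ d - 1 := by
    refine (Set.ncard_image_le (Set.toFinite _)).trans ?_
    rw [Set.ncard_compl, Set.ncard_singleton, Nat.card_eq_fintype_card, Fintype.card_fin]
  have h4 : (maximalIdeal R).spanFinrank ≤ d - 1 := by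
    rw [← h2]
    exact (Submodule.spanFinrank_span_le_ncard_of_finite (Set.toFinite _)).trans h5
  rw [hd] at h3
  have h6 : (maximalIdeal R).spanFinrank = d := by exact_mod_cast h3
  have := i.2
  omega

/-- A regular quotient of codimension one is the quotient by an element of `𝔪 ∖ 𝔪²`. -/
theorem exists_generator (R : Type u) [CommRing R] [IsRegularLocalRing R] (I : Ideal R) [IsRegularLocalRing (R ⧸ I)]
    (hdim : ringKrullDim (R ⧸ I) + 1 = ringKrullDim R) :
    ∃ t : R, t ∈ maximalIdeal R ∧ t ∉ maximalIdeal R ^ 2 ∧ I = Ideal.span {t} := by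
  obtain ⟨e, x, hd, hx, hI⟩ := K555.Params.exists_params R I 1 (by simpa using hdim)
  refine ⟨x (Fin.castAdd e 0), hx ▸ Ideal.subset_span ⟨_, rfl⟩, notMem_sq x hd hx _, ?_⟩
  rw [hI]
  congr 1
  ext r
  simp only [Set.mem_range, Set.mem_singleton_iff]
  constructor
  · rintro ⟨i, rfl⟩
    rw [Subsingleton.elim i 0]
  · rintro rfl
    exact ⟨0, rfl⟩

/-- Elements outside `𝔪²` stay outside `𝔪²` in a strict henselization. -/
theorem algebraMap_notMem_sq (A R : Type u) [CommRing A] [IsLocalRing A] [CommRing R] [IsLocalRing R]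
    [Algebra A R] [IsLocalHom (algebraMap A R)] [Hensel.IsStrictHenselization A R] (t : A)
    (ht : t ∉ maximalIdeal A ^ 2) : algebraMap A R t ∉ maximalIdeal R ^ 2 := by
  have hff : Module.FaithfullyFlat A R := Groth.Agent.S0539.result A R
  intro h
  apply ht
  rw [← Groth.Agent.S0538.result A R, ← Ideal.map_pow] at h
  have h1 : t ∈ ((maximalIdeal A ^ 2).map (algebraMap A R)).comap (algebraMap A R) := h
  rwa [Ideal.comap_map_eq_self_of_faithfullyFlat] at h1

/-- `DivPureAt n R` for every strict henselization `R` of `O_{X,x}`. -/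
def LocPure (n : ℕ) (X : Scheme.{u}) (x : X) : Prop :=
  ∀ (R : Type u) [CommRing R] [IsRegularLocalRing R] [Algebra (X.presheaf.stalk x) R]
    [IsLocalHom (algebraMap (X.presheaf.stalk x) R)] [Hensel.IsStrictHenselization (X.presheaf.stalk x) R],
    EtCoh.IsStrictlyHenselianLocalRing R → ringKrullDim R = ringKrullDim (X.presheaf.stalk x) → DivPureAt n R

theorem locPure_of_divPure {n : ℕ} (hP : DivPure.{u} n) {X : Scheme.{u}} (hn : IsUnit (n : Γ(X, ⊤))) (x : X) :
    LocPure n X x := fun R _ _ _ _ _ hsh _ => hP R hsh (Sga4h.X144LocCore.isUnit_of_isUnit n hn x R)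

section

variable {n : ℕ} {X D U : Scheme.{u}} [IsLocallyNoetherian X]
  (i : D ⟶ X) [IsClosedImmersion i] (hP : ∀ y : D, LocPure n X (i y))
  (hreg : ∀ y : D, IsRegularLocalRing (X.presheaf.stalk (i y)))
  (hDreg : ∀ y : D, IsRegularLocalRing (D.presheaf.stalk y))
  (hcodim : ∀ y : D, ringKrullDim (X.presheaf.stalk (i y)) = ringKrullDim (D.presheaf.stalk y) + 1)
  (j : U ⟶ X) [IsOpenImmersion j] (hU : Set.range j = (Set.range i)ᶜ)

include hP hreg hDreg hcodim hU

/-- Vanishing of the stalks along the divisor. -/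
theorem exists_isZero_stalk (y : D) (q : ℕ) (hq : 2 ≤ q) :
    ∃ (Ω : Type u) (_ : Field Ω) (_ : IsSepClosed Ω) (ξ : Spec (CommRingCat.of Ω) ⟶ X), ξ default = i y ∧
      IsZero ((EtCoh.stalk ξ).obj ((EtCoh.Rpush j q).obj (EtCoh.const U (ZMod n)))) := by
  have hA := hreg y
  have hY := hDreg y
  obtain ⟨R, _, _, _, _, hSH, -⟩ :=
    Groth.Agent.Hensel.Exist.exists_isStrictHenselization (X.presheaf.stalk (i y))
  have hsep : IsSepClosed (ResidueField R) := hSH.isSepClosure.sep_closed
  have hR : IsRegularLocalRing R := (Groth.Agent.S2743.result (X.presheaf.stalk (i y)) R).2 hA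
  have hsh : EtCoh.IsStrictlyHenselianLocalRing R :=
    ⟨Hensel.IsStrictHenselization.henselian (X.presheaf.stalk (i y)), inferInstance⟩
  have hsurj : Function.Surjective (i.stalkMap y).hom := i.stalkMap_surjective y
  let ε := RingHom.quotientKerEquivOfSurjective hsurj
  have hregI : IsRegularLocalRing (X.presheaf.stalk (i y) ⧸ RingHom.ker (i.stalkMap y).hom) :=
    IsRegularLocalRing.of_ringEquiv ε.symm
  obtain ⟨t, ht, ht2, hI⟩ := exists_generator (X.presheaf.stalk (i y)) (RingHom.ker (i.stalkMap y).hom) (by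
    rw [ringKrullDim_eq_of_ringEquiv ε]
    exact (hcodim y).symm)
  let t' : R := algebraMap (X.presheaf.stalk (i y)) R t
  have ht' : t' ∈ maximalIdeal R := by
    rw [← Groth.Agent.S0538.result (X.presheaf.stalk (i y)) R]
    exact Ideal.mem_map_of_mem _ ht
  have ht2' : t' ∉ maximalIdeal R ^ 2 := algebraMap_notMem_sq _ R t ht2
  let e : pullback j (Hens2.specOf X (i y) R) ≅ Spec (CommRingCat.of (Localization.Away t')) := by
    refine IsOpenImmersion.isoOfRangeEq (pullback.snd j (Hens2.specOf X (i y) R))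
      (Spec.map (CommRingCat.ofHom (algebraMap R (Localization.Away t')))) ?_
    ext z
    rw [OpenSq.mem_range_snd]
    have h1 : z ∈ Set.range (Spec.map (CommRingCat.ofHom (algebraMap R (Localization.Away t')))) ↔
        z ∈ (PrimeSpectrum.basicOpen t' : Set (PrimeSpectrum R)) := by
      rw [← PrimeSpectrum.localization_away_comap_range (Localization.Away t') t']
      rfl
    rw [h1]
    change (X.fromSpecStalk (i y) (Spec.map (CommRingCat.ofHom (algebraMap (X.presheaf.stalk (i y)) R)) z)) ∈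
      Set.range j ↔ t' ∉ z.asIdeal
    rw [hU, Set.mem_compl_iff, ClosedStalk.mem_range_iff, hI, Ideal.span_singleton_le_iff_mem]
    rfl
  refine ⟨ResidueField R, inferInstance, hsep, Hens2.geomPt X (i y) R,
    Sga4h.X144LocCore.geomPt_apply (i y) R _, ?_⟩
  obtain ⟨e1⟩ := Groth.Agent.S0620.result j (EtCoh.const U (ZMod n)) (i y) R q
  let A₁ := (EtCoh.pull (pullback.fst j (Hens2.specOf X (i y) R))).obj (EtCoh.const U (ZMod n))
  have E := e1.addCommGroupIsoToAddEquiv.trans (Etrest.IsoInv.HIso e.inv A₁ q)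
  have e2 : (EtCoh.pull e.inv).obj A₁ ≅ EtCoh.const _ (ZMod n) :=
    (EtCoh.pull e.inv).mapIso (Sga4B.Pure.pullConst _ (ZMod n)) ≪≫ Sga4B.Pure.pullConst _ (ZMod n)
  have h1 := hP y R hsh (Groth.Agent.S0541.result (X.presheaf.stalk (i y)) R) t' ht' ht2' q hq
  have h2 := (E.trans (Etrest.IsoInv.HCongr e2 q)).toEquiv.subsingleton
  exact AddCommGrpCat.isZero_of_subsingleton _

/-- **`R^q j_* ℤ/n = 0` for `q ≥ 2`**, hypothesis for the strict henselizations at the points of the divisor. -/
theorem isZero_Rpush_of_locPure (q : ℕ) (hq : 2 ≤ q) :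
    IsZero ((EtCoh.Rpush j q).obj (EtCoh.const U (ZMod n))) := by
  refine Etcore.Stalks.isZero_of_stalks _ fun x => ?_
  by_cases hx : x ∈ Set.range j
  · obtain ⟨y, rfl⟩ := hx
    obtain ⟨Ω, _, _, ζ, hζ⟩ := Etcore.Stalks.exists_geom y
    refine ⟨Ω, inferInstance, inferInstance, ζ ≫ j, ?_, ?_⟩
    · rw [Scheme.Hom.comp_apply, hζ]
    · obtain ⟨q, rfl⟩ : ∃ r, q = r + 1 := ⟨q - 1, by omega⟩
      have h1 := Sga4h.FinRed.isZero_pull_Rpush j (EtCoh.const U (ZMod n)) q
      exact ((EtCoh.stalk ζ).map_isZero h1).of_iso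
        ((Etbase.StalkPull.stalkPullIso j ζ).app ((EtCoh.Rpush j (q + 1)).obj (EtCoh.const U (ZMod n))))
  · rw [hU, Set.notMem_compl_iff] at hx
    obtain ⟨y, rfl⟩ := hx
    exact exists_isZero_stalk i hP hreg hDreg hcodim j hU y q hq

end

/-- **`R^q j_* ℤ/n = 0` for `q ≥ 2`**, `j` the open immersion of the complement of a regular divisor. -/
theorem isZero_Rpush {n : ℕ} (hP : DivPure.{u} n) {X D U : Scheme.{u}} [IsLocallyNoetherian X]
    (hn : IsUnit (n : Γ(X, ⊤))) (i : D ⟶ X) [IsClosedImmersion i]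
    (hreg : ∀ y : D, IsRegularLocalRing (X.presheaf.stalk (i y)))
    (hDreg : ∀ y : D, IsRegularLocalRing (D.presheaf.stalk y))
    (hcodim : ∀ y : D, ringKrullDim (X.presheaf.stalk (i y)) = ringKrullDim (D.presheaf.stalk y) + 1)
    (j : U ⟶ X) [IsOpenImmersion j] (hU : Set.range j = (Set.range i)ᶜ) (q : ℕ) (hq : 2 ≤ q) :
    IsZero ((EtCoh.Rpush j q).obj (EtCoh.const U (ZMod n))) :=
  isZero_Rpush_of_locPure i (fun y => locPure_of_divPure hP hn (i y)) hreg hDreg hcodim j hU q hq

end K3.DivStalk
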