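import Groth.Agent.EtDual.K608.Final
import Groth.Agent.EtDual.K726.Main
import Groth.Agent.EtDual.K821.HU
import Groth.Agent.EtDual.K147.HV
import Groth.Agent.EtDual.K143.AlphaIn

/-!
# Purity in codimension one, unconditional
-/

set_option autoImplicit false
universe u
open CategoryTheory CategoryTheory.Limits AlgebraicGeometry Opposite

namespace K3.PureFinal

open Groth.Agent.EtDual.K143.PV in
theorem divPure (n : ℕ) (hn : 0 < n) : K3.DivDef.DivPure.{u} n :=
  K726.Main.divPure (fun ℓ hℓ => by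
    have : NeZero ℓ := ⟨hℓ.ne_zero⟩
    have hF := Groth.Agent.EtDual.K850.Red.isTorsion_const
    exact K608.Final.puncWeak' ℓ hℓ
      (fun d _ x => K147.Glue.hv _ (hF _ ℓ hℓ.pos) (K608.Final.J ℓ d) x)
      (fun d _ x a ha => K821.HU.hU (hF _ ℓ hℓ.pos) (K608.Final.J ℓ d) (K608.Final.hv ℓ d) _ (by
        rw [Scheme.Opens.range_ι]
        rfl) x a ha)
      (fun d => alphaIn ℓ d)) n hn

end K3.PureFinal
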