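import Groth.Agent.EtDual.K3.PureTop

/-!
# Absolute purity at the closed point of a regular local ring, from `DivPure`

`punct`: the vanishing of `H^q_{x}(Spec A, ℤ/n)`, `q ≠ 2d`, and `H^{2d}_{x}(Spec A, ℤ/n(d)) ≅ i_* ℤ/n`.
-/

set_option autoImplicit false
universe u
open CategoryTheory CategoryTheory.Limits AlgebraicGeometry Opposite IsLocalRing

namespace K3.PurePt

open Groth.Agent K3.DivDef

/-- The inclusion of the closed point. -/
noncomputable abbrev pt (A : Type u) [CommRing A] [IsLocalRing A] :
    Spec (CommRingCat.of (ResidueField A)) ⟶ Spec (CommRingCat.of A) :=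
  Spec.map (CommRingCat.ofHom (residue A))

instance (A : Type u) [CommRing A] [IsLocalRing A] : IsClosedImmersion (pt A) :=
  IsClosedImmersion.spec_of_surjective _ residue_surjective

theorem pt_apply (A : Type u) [CommRing A] [IsLocalRing A] (y : Spec (CommRingCat.of (ResidueField A))) :
    pt A y = closedPoint A := by
  have hy : y = closedPoint (ResidueField A) := Subsingleton.elim _ _
  subst hy
  exact comap_closedPoint (residue A)

theorem range_pt (A : Type u) [CommRing A] [IsLocalRing A] :
    Set.range (pt A) = {closedPoint A} := by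
  ext z
  constructor
  · rintro ⟨y, rfl⟩
    exact pt_apply A y
  · rintro rfl
    exact ⟨closedPoint (ResidueField A), pt_apply A _⟩

theorem ringKrullDim_stalk (R : Type u) [CommRing R] (t : Spec (CommRingCat.of R)) :
    ringKrullDim ((Spec (CommRingCat.of R)).presheaf.stalk t) = ringKrullDim (Localization.AtPrime t.asIdeal) :=
  (ringKrullDim_eq_of_ringEquiv (StructureSheaf.stalkIso R t).toRingEquiv).symm

theorem ringKrullDim_stalk_closedPoint (A : Type u) [CommRing A] [IsLocalRing A] :
    ringKrullDim ((Spec (CommRingCat.of A)).presheaf.stalk (closedPoint A)) = ringKrullDim A := by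
  rw [ringKrullDim_stalk]
  have h := IsLocalization.AtPrime.ringKrullDim_eq_height (maximalIdeal A) (Localization.AtPrime (maximalIdeal A))
  change ringKrullDim (Localization.AtPrime (maximalIdeal A)) = _
  rw [h, IsLocalRing.maximalIdeal_height_eq_ringKrullDim]

theorem isRegularLocalRing_stalk_field (K : Type u) [Field K] (y : Spec (CommRingCat.of K)) :
    IsRegularLocalRing ((Spec (CommRingCat.of K)).presheaf.stalk y) := by
  have : IsRegularLocalRing K := inferInstance
  exact PureVan.isRegularLocalRing_stalk K y

theorem codim_pt (A : Type u) [CommRing A] [IsRegularLocalRing A] (d : ℕ) (hd : ringKrullDim A = d)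
    (y : Spec (CommRingCat.of (ResidueField A))) :
    ringKrullDim ((Spec (CommRingCat.of A)).presheaf.stalk (pt A y)) =
      ringKrullDim ((Spec (CommRingCat.of (ResidueField A))).presheaf.stalk y) + d := by
  have hy : y = closedPoint (ResidueField A) := Subsingleton.elim _ _
  rw [pt_apply, ringKrullDim_stalk_closedPoint, hd, hy, ringKrullDim_stalk_closedPoint,
    ringKrullDim_eq_zero_of_field, zero_add]

/-- **Punctual purity** for regular local rings. -/
theorem punct (hP : ∀ n : ℕ, 0 < n → DivPure.{u} n) (A : Type u) [CommRing A] [IsRegularLocalRing A]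
    (d : ℕ) (hd : ringKrullDim A = d) (n : ℕ) (hn0 : 0 < n) (hn : IsUnit (n : A))
    {U : Scheme.{u}} (j : U ⟶ Spec (CommRingCat.of A)) [IsOpenImmersion j]
    (hU : ∀ x : PrimeSpectrum A, x ∈ Set.range j.base ↔ x ≠ closedPoint A) :
    (∀ q : ℕ, q ≠ 2 * d → IsZero ((EtDual.locCoh j q).obj (EtCoh.const (Spec (CommRingCat.of A)) (ZMod n)))) ∧
      Nonempty ((EtDual.locCoh j (2 * d)).obj (EtDual.tate (Spec (CommRingCat.of A)) n d) ≅
        (EtCoh.push (pt A)).obj (EtCoh.const (Spec (CommRingCat.of (ResidueField A))) (ZMod n))) := by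
  have hN : IsLocallyNoetherian (Spec (CommRingCat.of A)) := inferInstance
  have hij : Set.range j.base = (Set.range (pt A).base)ᶜ := by
    have h1 : Set.range (pt A).base = {closedPoint A} := range_pt A
    rw [h1]
    ext x
    exact hU x
  exact ⟨fun q hq => PureTop.van hP (PureVan.isRegularLocalRing_stalk A) (pt A) (isRegularLocalRing_stalk_field _)
      j hij d (codim_pt A d hd) n hn0 (PureVan.isUnit_top hn) q hq,
    PureTop.top hP (PureVan.isRegularLocalRing_stalk A) (pt A) (isRegularLocalRing_stalk_field _)
      j hij d (codim_pt A d hd) n hn0 (PureVan.isUnit_top hn)⟩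

end K3.PurePt
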