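import Groth.Agent.EtDual.K3.PureVan
import Groth.Agent.EtDl.K555.BlowGeo
import Groth.Agent.EtDl.K555.GysinTop
import Groth.Agent.EtDl.K555.TensorZero
import Groth.Agent.Sga5.H855.EtUnit
import Groth.Agent.S0126

/-!
# Absolute purity from `DivPure`

* `van`: the vanishing part, every codimension;
* `top`: `H^{2c}_Y(X, ℤ/n(c)) ≅ i_* ℤ/n`, every codimension.
-/

set_option autoImplicit false
universe u
open CategoryTheory CategoryTheory.Limits AlgebraicGeometry Opposite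

attribute [local instance] HasDerivedCategory.standard

noncomputable section
namespace K3.PureTop

open Groth.Agent K3.DivDef K555 Groth.Agent.Sga5 Groth.Agent.Sga5.H855 Groth.Agent.Sga5.H855.EtPush
open scoped Groth.Agent.Etcore.EtInst

section van

variable {X U : Scheme.{u}} (j : U ⟶ X) [IsOpenImmersion j] (c : ℕ) (hc : 0 < c) (n : ℕ) (hn0 : n ≠ 0)
  (hn : IsUnit (n : Γ(X, ⊤)))
  (hv : ∀ q, q ≠ 2 * c → IsZero ((EtDual.locCoh j q).obj (EtCoh.const X (ZMod n))))

include hc hv in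
theorem isIso_unit_const : IsIso ((EtCoh.pullPushAdj j).unit.app (EtCoh.const X (ZMod n))) := by
  have h0 : Mono (EtDual.unitApp j (EtCoh.const X (ZMod n))) :=
    (Sga4h.LocCohLES.isZero_locCoh_zero_iff j _).1 (hv 0 (by omega))
  have h1 : Epi (EtDual.unitApp j (EtCoh.const X (ZMod n))) :=
    (Sga4h.LocCohLES.isZero_locCoh_one_iff j _).1 (hv 1 (by omega))
  exact isIso_of_mono_of_epi (EtDual.unitApp j (EtCoh.const X (ZMod n)))

include hc hn hv in
/-- `ℤ/n(t) ≅ j_* j^* ℤ/n(t)`. -/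
theorem isIso_unit (t : ℕ) : IsIso ((EtCoh.pullPushAdj j).unit.app (EtDual.tate X n t)) := by
  refine H855.EtUnit.isIso_unit_of_local j _ _ (fun y => ?_) (isIso_unit_const j c hc n hv)
  obtain ⟨V, h, hh, hJ, v, hv', ⟨e⟩⟩ := Sga4h.TateLocal.exists_local_iso n hn t y
  exact ⟨V, h, hh, v, hv', ⟨((EtpbcA.OverSite.pullIsoRestr h).app _ ≪≫ e ≪≫
    ((EtpbcA.OverSite.pullIsoRestr h).app _).symm).symm⟩⟩

include hn0 hn hv in
/-- `R^q j_* ℤ/n(t) = 0` for `q ≠ 0, 2c - 1`. -/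
theorem isZero_Rpush_tate (t q : ℕ) (hq0 : q ≠ 0) (hq : q ≠ 2 * c - 1) :
    IsZero ((EtCoh.Rpush j q).obj (EtDual.tate U n t)) := by
  have : NeZero n := ⟨hn0⟩
  obtain ⟨q, rfl⟩ := Nat.exists_eq_succ_of_ne_zero hq0
  have h1 : IsZero ((EtCoh.Rpush j (q + 1)).obj ((EtCoh.pull j).obj (EtCoh.const X (ZMod n)))) :=
    (hv (q + 2) (by omega)).of_iso (Sga4h.LocCohLES.locCohSuccIso j (EtCoh.const X (ZMod n)) q)
  have h2 : IsZero ((EtCoh.Rpush j (q + 1)).obj (EtDual.tate U n 0)) :=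
    h1.of_iso ((EtCoh.Rpush j (q + 1)).mapIso (EtCore.pullConst j (ZMod n)).symm)
  obtain ⟨e⟩ := H848.TateTwist.nonempty_rpush_tate_add j hn (q + 1) t 0
  exact (TensorZero.isZero_tensorAb _ _ h2).of_iso e

include hn0 hn hv in
theorem isZero_Rpush (t q : ℕ) (hq0 : q ≠ 0) (hq : q ≠ 2 * c - 1) :
    IsZero ((EtCoh.Rpush j q).obj ((EtCoh.pull j).obj (EtDual.tate X n t))) := by
  have : NeZero n := ⟨hn0⟩
  obtain ⟨-, ⟨e⟩⟩ := H848.TateTwist.nonempty_pull_tate j hn t
  exact (isZero_Rpush_tate j c n hn0 hn hv t q hq0 hq).of_iso ((EtCoh.Rpush j q).mapIso e)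

end van

/-- **Purity, positive codimension**: `H^{2(e+1)}_Y(X, ℤ/ν(e+1)) ≅ i_* ℤ/ν`. -/
theorem top_succ {ν : ℕ} [NeZero ν] (hP : DivPure.{u} ν) {X Y U : Scheme.{u}} [IsLocallyNoetherian X]
    (i : Y ⟶ X) [IsClosedImmersion i] (hreg : ∀ x : X, IsRegularLocalRing (X.presheaf.stalk x))
    (hYreg : ∀ y : Y, IsRegularLocalRing (Y.presheaf.stalk y))
    (j : U ⟶ X) [IsOpenImmersion j] (hj : Set.range j = (Set.range i)ᶜ) (e : ℕ)
    (hcodim : ∀ y : Y, ringKrullDim (X.presheaf.stalk (i y)) = ringKrullDim (Y.presheaf.stalk y) + (e + 1 : ℕ))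
    (hν : IsUnit (ν : Γ(X, ⊤))) :
    Nonempty ((EtDual.locCoh j (2 * (e + 1))).obj (EtDual.tate X ν (e + 1)) ≅
      (EtCoh.push i).obj (EtCoh.const Y (ZMod ν))) := by
  obtain ⟨X', b, E, i', π, s, hb, hX', hX'reg, hi', hE, hs, hEreg, hEcodim, hdim⟩ :=
    BlowGeo.exists_blowUp i hreg hYreg j hj e hcodim
  have hd : IsCompl (Set.range i) (Set.range j) := by rw [hj]; exact isCompl_compl
  have hs' : IsOpenImmersion s := MorphismProperty.of_isPullback hs.flip inferInstance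
  have hν' : IsUnit (ν : Γ(X', ⊤)) := GysinTop.isUnit_pull b ν hν
  have hc := isCompl' hs hE hd
  have hsU : Set.range s = (Set.range i')ᶜ := hc.compl_eq.symm
  have hEcodim' : ∀ z : E, ringKrullDim (X'.presheaf.stalk (i' z)) =
      ringKrullDim (E.presheaf.stalk z) + (1 : ℕ) := by
    intro z; rw [hEcodim z]; norm_num
  have h2 : ∀ t, Nonempty ((EtCoh.Rpush s 1).obj ((EtCoh.pull s).obj ((EtCoh.pull b).obj
      (EtDual.tate X ν (t + 1)))) ≅ (EtCoh.push i').obj (EtDual.tate E ν t)) := by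
    intro t
    obtain ⟨-, ⟨a⟩⟩ := H848.TateTwist.nonempty_pull_tate b hν (t + 1)
    obtain ⟨-, ⟨a'⟩⟩ := H848.TateTwist.nonempty_pull_tate s hν' (t + 1)
    obtain ⟨p⟩ := RegDivTate.nonempty_iso hX'reg ν hν' i' hEreg hEcodim s hsU t
    exact ⟨(EtCoh.Rpush s 1).mapIso ((EtCoh.pull s).mapIso a ≪≫ a') ≪≫ p⟩
  have hv1 := fun q hq => PureVan.isZero_locCoh hP i (fun y => hreg _) hYreg j hj (e + 1) hcodim
    (NeZero.ne ν) hν q hq
  have hv2 := fun q hq => PureVan.isZero_locCoh hP i' (fun y => hX'reg _) hEreg s hsU 1 hEcodim'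
    (NeZero.ne ν) hν' q hq
  have h3 : ∀ t, EtIter.Hyp b j s (EtDual.tate X ν (t + 1)) (2 * e) := by
    intro t
    obtain ⟨-, ⟨et⟩⟩ := H848.TateTwist.nonempty_pull_tate b hν (t + 1)
    have v := Groth.Agent.S0126.result b e hdim ((EtCoh.pull b).obj (EtDual.tate X ν (t + 1)))
      (Sga4B.TorsionStalks.isTorsion_pull b
        (HcConst.isTorsion_of_killedBy ν (NeZero.ne ν) _ (HcConst.killedBy_tate X ν (t + 1))))
    have p1 := isIso_unit j (e + 1) e.succ_pos ν hν hv1 (t + 1)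
    have p2 := isZero_Rpush j (e + 1) ν (NeZero.ne ν) hν hv1 (t + 1)
    have p3 := isIso_unit s 1 one_pos ν hν' hv2 (t + 1)
    have p4 := isZero_Rpush s 1 ν (NeZero.ne ν) hν' hv2 (t + 1)
    exact
      { h₁ := fun q hq => v q hq
        h₂ := p1
        h₂' := fun q h1 h2 => p2 q (by omega) (by omega)
        h₂'' := fun q h1 => p2 q (by omega) (by omega)
        h₃ := (NatTrans.isIso_app_iff_of_iso _ et).2 p3
        h₃' := fun q hq => (p4 q (by omega) (by omega)).of_iso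
          ((EtCoh.Rpush s q).mapIso ((EtCoh.pull s).mapIso et)) }
  exact GysinTop.nonempty_locCoh_top b i j hd s hs i' π hE ν hν h2 e h3

/-! ### Codimension zero -/

/-- A closed immersion of codimension zero between regular schemes is an open immersion. -/
theorem isOpenImmersion_of_codim_zero {X Y : Scheme.{u}} [IsLocallyNoetherian X] (i : Y ⟶ X) [IsClosedImmersion i]
    (hreg : ∀ y : Y, IsRegularLocalRing (X.presheaf.stalk (i y)))
    (hYreg : ∀ y : Y, IsRegularLocalRing (Y.presheaf.stalk y))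
    (hcodim : ∀ y : Y, ringKrullDim (X.presheaf.stalk (i y)) = ringKrullDim (Y.presheaf.stalk y) + (0 : ℕ)) :
    IsOpenImmersion i := by
  have hflat : Flat i := by
    refine Flat.of_stalkMap i fun y => ?_
    have hR := hreg y
    have hY := hYreg y
    have hsurj : Function.Surjective (i.stalkMap y).hom := i.stalkMap_surjective y
    let ε := RingHom.quotientKerEquivOfSurjective hsurj
    have hregI : IsRegularLocalRing (X.presheaf.stalk (i y) ⧸ RingHom.ker (i.stalkMap y).hom) :=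
      IsRegularLocalRing.of_ringEquiv ε.symm
    obtain ⟨e, x, hd, hx, hI⟩ := Params.exists_params (X.presheaf.stalk (i y)) (RingHom.ker (i.stalkMap y).hom) 0
      (by rw [ringKrullDim_eq_of_ringEquiv ε]; exact (hcodim y).symm)
    have hI0 : RingHom.ker (i.stalkMap y).hom = ⊥ := by
      rw [hI, Set.range_eq_empty, Ideal.span_empty]
    exact RingHom.Flat.of_bijective ⟨(RingHom.injective_iff_ker_eq_bot _).2 hI0, hsurj⟩
  have : LocallyOfFinitePresentation i := LocallyOfFinitePresentation.iff_locallyOfFiniteType.2 inferInstance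
  exact IsOpenImmersion.of_flat_of_mono i

/-- Local cohomology in degree zero along an open and closed subscheme. -/
theorem nonempty_locCoh_zero {X Y U : Scheme.{u}} (i : Y ⟶ X) [IsClosedImmersion i] [IsOpenImmersion i]
    (j : U ⟶ X) [IsOpenImmersion j] (hj : Set.range j = (Set.range i)ᶜ) (F : EtCoh.Ab X) :
    Nonempty ((EtDual.locCoh j 0).obj F ≅ (EtCoh.push i).obj ((EtCoh.pull i).obj F)) := by
  let j' : (⊥ : Y.Opens).toScheme ⟶ Y := (⊥ : Y.Opens).ι
  have he : IsEmpty (⊥ : Y.Opens).toScheme := ⟨fun x => x.2⟩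
  have hr : Set.range j' = i ⁻¹' Set.range j := by
    rw [hj]
    ext y
    constructor
    · rintro ⟨z, -⟩
      exact (he.false z).elim
    · intro hy
      exact (hy ⟨y, rfl⟩).elim
  exact ⟨Sga4B.ClosedSupp.locCohUnitIso i j 0 F hj ≪≫
    (EtCoh.push i).mapIso ((Sga4B.LocCohLocal.locCohPullIsoOfRange j i j' hr 0).app F ≪≫
      Sga4B.LocCohTriv.locCohZeroIsoOfIsEmpty j' ((EtCoh.pull i).obj F))⟩

/-- Purity in codimension zero. -/
theorem top_zero (ν : ℕ) {X Y U : Scheme.{u}} [IsLocallyNoetherian X]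
    (i : Y ⟶ X) [IsClosedImmersion i] (hreg : ∀ x : X, IsRegularLocalRing (X.presheaf.stalk x))
    (hYreg : ∀ y : Y, IsRegularLocalRing (Y.presheaf.stalk y))
    (j : U ⟶ X) [IsOpenImmersion j] (hj : Set.range j = (Set.range i)ᶜ)
    (hcodim : ∀ y : Y, ringKrullDim (X.presheaf.stalk (i y)) = ringKrullDim (Y.presheaf.stalk y) + (0 : ℕ)) :
    Nonempty ((EtDual.locCoh j (2 * 0)).obj (EtDual.tate X ν 0) ≅ (EtCoh.push i).obj (EtCoh.const Y (ZMod ν))) := by
  have := isOpenImmersion_of_codim_zero i (fun y => hreg _) hYreg hcodim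
  obtain ⟨e⟩ := nonempty_locCoh_zero i j hj (EtCoh.const X (ZMod ν))
  exact ⟨e ≪≫ (EtCoh.push i).mapIso (Sga4B.Pure.pullConst i (ZMod ν))⟩

/-- **Absolute purity (vanishing)** for regular pairs, from `DivPure`. -/
theorem van (hP : ∀ n : ℕ, 0 < n → DivPure.{u} n) {X Y U : Scheme.{u}} [IsLocallyNoetherian X]
    (hXreg : ∀ x : X, IsRegularLocalRing (X.presheaf.stalk x))
    (i : Y ⟶ X) [IsClosedImmersion i]
    (hYreg : ∀ y : Y, IsRegularLocalRing (Y.presheaf.stalk y))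
    (j : U ⟶ X) [IsOpenImmersion j] (hij : Set.range j.base = (Set.range i.base)ᶜ)
    (c : ℕ) (hcodim : ∀ y : Y, ringKrullDim (X.presheaf.stalk (i.base y)) = ringKrullDim (Y.presheaf.stalk y) + c)
    (n : ℕ) (hn0 : 0 < n) (hn : IsUnit (n : Γ(X, ⊤))) (q : ℕ) (hq : q ≠ 2 * c) :
    IsZero ((EtDual.locCoh j q).obj (EtCoh.const X (ZMod n))) :=
  PureVan.isZero_locCoh (hP n hn0) i (fun y => hXreg _) hYreg j hij c hcodim hn0.ne' hn q hq

/-- **Absolute purity (top degree)** for regular pairs, from `DivPure`. -/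
theorem top (hP : ∀ n : ℕ, 0 < n → DivPure.{u} n) {X Y U : Scheme.{u}} [IsLocallyNoetherian X]
    (hXreg : ∀ x : X, IsRegularLocalRing (X.presheaf.stalk x))
    (i : Y ⟶ X) [IsClosedImmersion i]
    (hYreg : ∀ y : Y, IsRegularLocalRing (Y.presheaf.stalk y))
    (j : U ⟶ X) [IsOpenImmersion j] (hij : Set.range j.base = (Set.range i.base)ᶜ)
    (c : ℕ) (hcodim : ∀ y : Y, ringKrullDim (X.presheaf.stalk (i.base y)) = ringKrullDim (Y.presheaf.stalk y) + c)
    (n : ℕ) (hn0 : 0 < n) (hn : IsUnit (n : Γ(X, ⊤))) :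
    Nonempty ((EtDual.locCoh j (2 * c)).obj (EtDual.tate X n c) ≅ (EtCoh.push i).obj (EtCoh.const Y (ZMod n))) := by
  have : NeZero n := ⟨hn0.ne'⟩
  match c, hcodim with
  | 0, h => exact top_zero n i hXreg hYreg j hij h
  | e + 1, h => exact top_succ (hP n hn0) i hXreg hYreg j hij e h hn

end K3.PureTop
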