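import Groth.Agent.EtDual.K3.DivStalk
import Groth.Agent.EtDl.K555.RegDivTate
import Groth.Agent.EtDl.K555.RegMor
import Groth.Agent.Sga2lef.H101.LocCohBC
import Groth.Agent.Sga2lef.H101.AffOrigin
import Groth.Agent.Sga4h.TateLocal
import Groth.Agent.Sga4B.LocCohTriv
import Groth.Agent.Sga4B.PureComp
import Groth.Agent.Divis.RegStalk
import Groth.Agent.S0564
import Groth.Agent.CalgA.RegBasic
import Mathlib.AlgebraicGeometry.FunctionField

/-!
# Vanishing of the local cohomology sheaves of `ℤ/n` for regular pairs, from `DivPure n`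

* `isZero_locCoh_comp`: local cohomology sheaves for `Y ⊆ Z ⊆ X` when those for `Z ⊆ X` sit in one degree;
* `isZero_locCoh_local`: regular closed subschemes of the spectrum of a regular local ring;
* `isZero_locCoh`: regular pairs of locally Noetherian schemes.
-/

set_option autoImplicit false
universe u
open CategoryTheory CategoryTheory.Limits AlgebraicGeometry Opposite IsLocalRing

namespace K3.PureVan

open Groth.Agent K3.DivDef K555 Groth.Agent.Sga4B.PureComp Groth.Agent.Sga4B.ClosedSupp Groth.Agent.Sga4B.SuppFun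

/-- Local cohomology sheaves for `Y ⊆ Z ⊆ X`, those for `Z ⊆ X` being concentrated in degree `c`. -/
theorem isZero_locCoh_comp {X Z UZ UY U' : Scheme.{u}} (i : Z ⟶ X) [IsClosedImmersion i]
    (jZ : UZ ⟶ X) (jY : UY ⟶ X) (j' : U' ⟶ Z) [IsOpenImmersion jZ] [IsOpenImmersion jY] [IsOpenImmersion j']
    (hfac : Set.range jZ ⊆ Set.range jY) (hr : Set.range j' = i ⁻¹' Set.range jY) (F : EtCoh.Ab X) (c r : ℕ)
    (hA : ∀ q, q ≠ c → IsZero ((EtDual.locCoh jZ q).obj F)) (L : EtCoh.Ab Z)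
    (eA : (EtDual.locCoh jZ c).obj F ≅ (EtCoh.push i).obj L)
    (hB : ∀ q, q ≠ r → IsZero ((EtDual.locCoh j' q).obj L)) (q : ℕ) (hq : q ≠ c + r) :
    IsZero ((EtDual.locCoh jY q).obj F) := by
  obtain ⟨k, sq⟩ := Sga4B.LocCohLocal.isPullback_of_range jY i j' hr
  let a : UZ ⟶ UY := IsOpenImmersion.lift jY jZ hfac
  have ha : a ≫ jY = jZ := IsOpenImmersion.lift_fac _ _ _
  rcases lt_or_ge q c with h | h
  · have e2 := (Sga4h.RightDer.rightDerivedIso (secSuppCompIso jZ jY a ha) q).app F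
    exact IsZero.of_iso (Sga4h.Edge.isZero_rightDerived_comp (EtDual.secSupp jZ)
      (EtDual.secSupp jY) (fun I _ => inferInstance) F c
      (fun p hp => hA p (by omega)) q h) e2.symm
  · obtain ⟨p, rfl⟩ := Nat.exists_eq_add_of_le h
    obtain ⟨e1⟩ := Sga4B.RDComp.nonempty_rightDerived_comp (EtDual.secSupp jZ) (EtDual.secSupp jY)
      (fun I _ => inferInstance) F c hA p
    have e2 := (Sga4h.RightDer.rightDerivedIso (secSuppCompIso jZ jY a ha) (c + p)).app F
    exact IsZero.of_iso ((EtCoh.push i).map_isZero (hB p (by omega)))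
      (e2.symm ≪≫ e1 ≪≫ (EtDual.locCoh jY p).mapIso eA ≪≫ locCohPushIso sq p L)

/-- Étale locally `μ_n ≅ ℤ/n`. -/
theorem exists_local_mu {X : Scheme.{u}} (n : ℕ) (hn : IsUnit (n : Γ(X, ⊤))) (x : X) :
    ∃ (V : Scheme.{u}) (h : V ⟶ X) (_ : Etale h) (_ : EtShriek.JCont h) (v : V), h v = x ∧
      Nonempty ((EtShriek.restrAlong h).obj (EtCoh.const X (ZMod n)) ≅
        (EtShriek.restrAlong h).obj (EtCoh.mu X n)) := by
  obtain ⟨V, h, hh, v, hv, hn0, hnV, ⟨e⟩⟩ := Sga4h.MuLocal2.exists_local_iso n hn x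
  have hJ := Sga4h.EtaleRes.jCont h
  exact ⟨V, h, hh, hJ, v, hv, ⟨Sga4h.EtaleRes2.constRestr h (ZMod n) ≪≫ e ≪≫ (Sga4h.EtaleRes2.muRestr h n).symm⟩⟩

theorem exists_local_mu' {X : Scheme.{u}} (n : ℕ) (hn : IsUnit (n : Γ(X, ⊤))) (x : X) :
    ∃ (V : Scheme.{u}) (h : V ⟶ X) (_ : Etale h) (_ : EtShriek.JCont h) (v : V), h v = x ∧
      Nonempty ((EtShriek.restrAlong h).obj (EtCoh.mu X n) ≅
        (EtShriek.restrAlong h).obj (EtCoh.const X (ZMod n))) := by
  obtain ⟨V, h, hh, hJ, v, hv, ⟨e⟩⟩ := exists_local_mu n hn x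
  exact ⟨V, h, hh, hJ, v, hv, ⟨e.symm⟩⟩


/-- The stalks of the spectrum of a regular local ring are regular. -/
theorem isRegularLocalRing_stalk (R : Type u) [CommRing R] [IsRegularLocalRing R]
    (t : Spec (CommRingCat.of R)) : IsRegularLocalRing ((Spec (CommRingCat.of R)).presheaf.stalk t) := by
  have : IsRegularLocalRing (Localization.AtPrime t.asIdeal) := Groth.Agent.S0564.result R t.asIdeal
  exact IsRegularLocalRing.of_ringEquiv (R' := (Spec (CommRingCat.of R)).presheaf.stalk t)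
    (StructureSheaf.stalkIso R t).toRingEquiv

/-- The closed subscheme `V(t)`. -/
noncomputable abbrev clo {R : Type u} [CommRing R] (t : R) :
    Spec (CommRingCat.of (R ⧸ Ideal.span {t})) ⟶ Spec (CommRingCat.of R) :=
  Spec.map (CommRingCat.ofHom (Ideal.Quotient.mk (Ideal.span {t})))

instance {R : Type u} [CommRing R] (t : R) : IsClosedImmersion (clo t) :=
  IsClosedImmersion.spec_of_surjective _ Ideal.Quotient.mk_surjective

theorem range_clo {R : Type u} [CommRing R] (t : R) (z : Spec (CommRingCat.of R)) :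
    z ∈ Set.range (clo t) ↔ t ∈ z.asIdeal := by
  have hr : Set.range (clo t) = PrimeSpectrum.zeroLocus (RingHom.ker (Ideal.Quotient.mk (Ideal.span {t})) : Set R) :=
    range_comap_of_surjective _ _ Ideal.Quotient.mk_surjective
  rw [hr, Ideal.mk_ker, PrimeSpectrum.zeroLocus_span]
  change {t} ⊆ (z.asIdeal : Set R) ↔ _
  simp

theorem ker_stalkMap_clo {R : Type u} [CommRing R] (t : R) (z : Spec (CommRingCat.of (R ⧸ Ideal.span {t}))) :
    RingHom.ker ((clo t).stalkMap z).hom =
      Ideal.span {(Spec (CommRingCat.of R)).presheaf.germ ⊤ (clo t z) trivial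
        ((Scheme.ΓSpecIso (CommRingCat.of R)).inv t)} := by
  rw [Divis.RegStalk.ker_stalkMap (clo t) z ⟨⊤, isAffineOpen_top _⟩ trivial, Scheme.Hom.ker_apply]
  have h1 : RingHom.ker ((clo t).app ⊤).hom = Ideal.span {(Scheme.ΓSpecIso (CommRingCat.of R)).inv t} := by
    have h2 := Scheme.ΓSpecIso_inv_naturality (CommRingCat.ofHom (Ideal.Quotient.mk (Ideal.span {t})))
    ext a
    let a' := (Scheme.ΓSpecIso (CommRingCat.of R)).hom a
    have ha : (Scheme.ΓSpecIso (CommRingCat.of R)).inv a' = a := by simp [a']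
    rw [← ha]
    have h3 : ((clo t).app ⊤).hom ((Scheme.ΓSpecIso (CommRingCat.of R)).inv a') =
        (Scheme.ΓSpecIso (CommRingCat.of (R ⧸ Ideal.span {t}))).inv (Ideal.Quotient.mk (Ideal.span {t}) a') := by
      exact (ConcreteCategory.congr_hom h2 a').symm
    rw [RingHom.mem_ker, h3]
    have h4 : Function.Injective (Scheme.ΓSpecIso (CommRingCat.of (R ⧸ Ideal.span {t}))).inv :=
      (ConcreteCategory.bijective_of_isIso _).1
    have h5 : Function.Bijective (Scheme.ΓSpecIso (CommRingCat.of R)).inv := ConcreteCategory.bijective_of_isIso _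
    have h6 : (Scheme.ΓSpecIso (CommRingCat.of (R ⧸ Ideal.span {t}))).inv (Ideal.Quotient.mk (Ideal.span {t}) a') = 0 ↔
        Ideal.Quotient.mk (Ideal.span {t}) a' = 0 := map_eq_zero_iff _ h4
    refine h6.trans ?_
    rw [Ideal.Quotient.eq_zero_iff_mem, Ideal.mem_span_singleton, Ideal.mem_span_singleton]
    constructor
    · rintro ⟨b, hb⟩
      exact ⟨(Scheme.ΓSpecIso (CommRingCat.of R)).inv b, by rw [hb, map_mul]⟩
    · rintro ⟨b, hb⟩
      obtain ⟨b, rfl⟩ := h5.2 b
      exact ⟨b, h5.1 (by rw [hb, map_mul])⟩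
  rw [h1, Ideal.map_span, Set.image_singleton]

theorem codim_clo {R : Type u} [CommRing R] [IsRegularLocalRing R] (t : R) (ht : t ≠ 0)
    (z : Spec (CommRingCat.of (R ⧸ Ideal.span {t}))) :
    ringKrullDim ((Spec (CommRingCat.of R)).presheaf.stalk (clo t z)) =
      ringKrullDim ((Spec (CommRingCat.of (R ⧸ Ideal.span {t}))).presheaf.stalk z) + 1 := by
  have hdom : IsDomain R := CalgA.RegBasic.isDomain R
  have hreg := isRegularLocalRing_stalk R (clo t z)
  have hdom' : IsDomain ((Spec (CommRingCat.of R)).presheaf.stalk (clo t z)) := CalgA.RegBasic.isDomain _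
  have hsurj : Function.Surjective ((clo t).stalkMap z).hom := (clo t).stalkMap_surjective z
  let ε := RingHom.quotientKerEquivOfSurjective hsurj
  set f := (Spec (CommRingCat.of R)).presheaf.germ ⊤ (clo t z) trivial ((Scheme.ΓSpecIso (CommRingCat.of R)).inv t)
    with hf
  have hker := ker_stalkMap_clo t z
  rw [← hf] at hker
  have hfm : f ∈ maximalIdeal ((Spec (CommRingCat.of R)).presheaf.stalk (clo t z)) := by
    have h1 : f ∈ RingHom.ker ((clo t).stalkMap z).hom := by rw [hker]; exact Ideal.mem_span_singleton_self _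
    exact IsLocalRing.le_maximalIdeal (RingHom.ker_ne_top _) h1
  have hf0 : f ≠ 0 := by
    have hinj := AlgebraicGeometry.germ_injective_of_isIntegral (Spec (CommRingCat.of R)) (U := ⊤) (clo t z) trivial
    have hinj2 : Function.Injective (Scheme.ΓSpecIso (CommRingCat.of R)).inv :=
      (ConcreteCategory.bijective_of_isIso _).1
    intro h0
    exact ht (hinj2 (hinj (by rw [map_zero, map_zero]; exact h0)))
  rw [← ringKrullDim_eq_of_ringEquiv ε, ← ringKrullDim_eq_of_ringEquiv (Ideal.quotEquivOfEq hker).symm]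
  exact (ringKrullDim_quotient_span_singleton_succ_eq_ringKrullDim_of_mem_nonZeroDivisors
    (mem_nonZeroDivisors_of_ne_zero hf0) hfm).symm


/-- Purity in codimension one for `μ_n`, degrees `≤ 2` (unconditional). -/
theorem div_mu_low {n : ℕ} {X D U : Scheme.{u}} [IsLocallyNoetherian X]
    (hXreg : ∀ x : X, IsRegularLocalRing (X.presheaf.stalk x)) (hn : IsUnit (n : Γ(X, ⊤)))
    (i : D ⟶ X) [IsClosedImmersion i] (hDreg : ∀ y : D, IsRegularLocalRing (D.presheaf.stalk y))
    (hcodim : ∀ y : D, ringKrullDim (X.presheaf.stalk (i y)) = ringKrullDim (D.presheaf.stalk y) + 1)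
    (j : U ⟶ X) [IsOpenImmersion j] (hU : Set.range j = (Set.range i)ᶜ) :
    IsZero ((EtDual.locCoh j 0).obj (EtCoh.mu X n)) ∧ IsZero ((EtDual.locCoh j 1).obj (EtCoh.mu X n)) ∧
      Nonempty ((EtDual.locCoh j 2).obj (EtCoh.mu X n) ≅ (EtCoh.push i).obj (EtCoh.const D (ZMod n))) := by
  have hreg : Sga4h.RegDiv.IsRegDiv i :=
    ⟨inferInstance, inferInstance, fun y => hXreg _, hDreg, hcodim⟩
  have hufd : ∀ (V : X.Etale) (x : V.left), UniqueFactorizationMonoid (V.left.presheaf.stalk x) := by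
    intro V x
    have : Etale (V.hom : V.left ⟶ X) := V.prop
    have : IsRegularLocalRing (V.left.presheaf.stalk x) :=
      (Groth.Agent.S0065.result (X := V.left) (Y := X) V.hom x).2 (hXreg _)
    exact (Groth.Agent.S2821.result _).2
  have h1 : IsZero ((EtCoh.Rpush j 1).obj ((EtCoh.pull j).obj (EtCoh.Gm X))) :=
    Sga5.GmR1.isZero_Rpush_one j hufd _ (Sga4h.EtaleRes2.pullGm j)
  have h2 : IsZero ((EtDual.locCoh j 2).obj (EtCoh.Gm X)) :=
    h1.of_iso (Sga4h.LocCohLES.locCohSuccIso j (EtCoh.Gm X) 0).symm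
  exact Sga4h.RegDivMain.main hreg hU n hn h2

/-- `ℤ/n ≅ j_* j^* ℤ/n` for the complement `j` of a regular divisor. -/
theorem isIso_unitApp_div {n : ℕ} {X D U : Scheme.{u}} [IsLocallyNoetherian X]
    (hXreg : ∀ x : X, IsRegularLocalRing (X.presheaf.stalk x)) (hn : IsUnit (n : Γ(X, ⊤)))
    (i : D ⟶ X) [IsClosedImmersion i] (hDreg : ∀ y : D, IsRegularLocalRing (D.presheaf.stalk y))
    (hcodim : ∀ y : D, ringKrullDim (X.presheaf.stalk (i y)) = ringKrullDim (D.presheaf.stalk y) + 1)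
    (j : U ⟶ X) [IsOpenImmersion j] (hU : Set.range j = (Set.range i)ᶜ) :
    IsIso (EtDual.unitApp j (EtCoh.const X (ZMod n))) := by
  obtain ⟨a0, a1, -⟩ := div_mu_low hXreg hn i hDreg hcodim j hU
  have h0 : Mono (EtDual.unitApp j (EtCoh.const X (ZMod n))) :=
    (Sga4h.LocCohLES.isZero_locCoh_zero_iff j _).1
      (Sga4h.LocCohLocal.isZero_locCoh_of_local j _ _ (exists_local_mu' n hn) 0 a0)
  have h1 : Epi (EtDual.unitApp j (EtCoh.const X (ZMod n))) :=
    (Sga4h.LocCohLES.isZero_locCoh_one_iff j _).1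
      (Sga4h.LocCohLocal.isZero_locCoh_of_local j _ _ (exists_local_mu' n hn) 1 a1)
  exact isIso_of_mono_of_epi (EtDual.unitApp j (EtCoh.const X (ZMod n)))

/-- Purity in codimension one for `μ_n`. -/
theorem div_mu {n : ℕ} {X D U : Scheme.{u}} [IsLocallyNoetherian X]
    (hXreg : ∀ x : X, IsRegularLocalRing (X.presheaf.stalk x)) (hn : IsUnit (n : Γ(X, ⊤)))
    (i : D ⟶ X) [IsClosedImmersion i] (hP : ∀ y : D, DivStalk.LocPure n X (i y))
    (hDreg : ∀ y : D, IsRegularLocalRing (D.presheaf.stalk y))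
    (hcodim : ∀ y : D, ringKrullDim (X.presheaf.stalk (i y)) = ringKrullDim (D.presheaf.stalk y) + 1)
    (j : U ⟶ X) [IsOpenImmersion j] (hU : Set.range j = (Set.range i)ᶜ) :
    (∀ q, q ≠ 2 → IsZero ((EtDual.locCoh j q).obj (EtCoh.mu X n))) ∧
      Nonempty ((EtDual.locCoh j 2).obj (EtCoh.mu X n) ≅ (EtCoh.push i).obj (EtCoh.const D (ZMod n))) := by
  obtain ⟨a0, a1, a2⟩ := div_mu_low hXreg hn i hDreg hcodim j hU
  refine ⟨fun q hq => ?_, a2⟩
  match q, hq with
  | 0, _ => exact a0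
  | 1, _ => exact a1
  | 2, h => exact absurd rfl h
  | q + 3, _ =>
    refine Sga4h.LocCohLocal.isZero_locCoh_of_local j _ _ (exists_local_mu n hn) (q + 3) ?_
    have h3 : IsZero ((EtCoh.Rpush j (q + 2)).obj (EtCoh.const U (ZMod n))) :=
      DivStalk.isZero_Rpush_of_locPure i hP (fun y => hXreg _) hDreg hcodim j hU (q + 2) (by omega)
    exact (h3.of_iso ((EtCoh.Rpush j (q + 2)).mapIso (Sga4B.Pure.pullConst j (ZMod n)))).of_iso
      (Sga4h.LocCohLES.locCohSuccIso j (EtCoh.const X (ZMod n)) (q + 1)).symm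

theorem isUnit_top {R : Type u} [CommRing R] {n : ℕ} (hn : IsUnit (n : R)) :
    IsUnit (n : Γ(Spec (CommRingCat.of R), ⊤)) := by
  have h3 := hn.map (Scheme.ΓSpecIso (CommRingCat.of R)).inv.hom
  rwa [map_natCast] at h3

/-- Local cohomology vanishes in degrees `≠ 0` when the closed subset is everything. -/
theorem isZero_locCoh_of_isEmpty {X U : Scheme.{u}} [IsEmpty U] (j : U ⟶ X) [IsOpenImmersion j] (F : EtCoh.Ab X)
    {q : ℕ} (hq : q ≠ 0) : IsZero ((EtDual.locCoh j q).obj F) := by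
  obtain ⟨q, rfl⟩ := Nat.exists_eq_succ_of_ne_zero hq
  exact Sga4B.LocCohTriv.isZero_locCoh_succ_of_isEmpty j F q

/-- **Purity (vanishing) for regular closed subschemes of the spectrum of a regular local ring.** -/
theorem isZero_locCoh_local {n : ℕ} (hP : DivPure.{u} n) (c : ℕ) :
    ∀ (R : Type u) [CommRing R] [IsRegularLocalRing R], IsUnit (n : R) → ∀ (I : Ideal R) [IsRegularLocalRing (R ⧸ I)],
      ringKrullDim (R ⧸ I) + c = ringKrullDim R → ∀ {U : Scheme.{u}} (j : U ⟶ Spec (CommRingCat.of R))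
      [IsOpenImmersion j], (∀ z : Spec (CommRingCat.of R), z ∈ Set.range j ↔ ¬ I ≤ z.asIdeal) → ∀ {q : ℕ},
      q ≠ 2 * c → IsZero ((EtDual.locCoh j q).obj (EtCoh.const (Spec (CommRingCat.of R)) (ZMod n))) := by
  induction c with
  | zero =>
    intro R _ _ hn I _ hdim U j _ hj q hq
    obtain ⟨e, x, hd, hx, hI⟩ := Params.exists_params R I 0 hdim
    have hI0 : I = ⊥ := by
      rw [hI, Set.range_eq_empty, Ideal.span_empty]
    have hU : IsEmpty U := ⟨fun y => (hj (j y)).1 ⟨y, rfl⟩ (hI0 ▸ bot_le)⟩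
    exact isZero_locCoh_of_isEmpty j _ hq
  | succ c ih =>
    intro R _ _ hn I _ hdim U j _ hj q hq
    obtain ⟨e, x, hd, hx, hI⟩ := Params.exists_params R I (c + 1) hdim
    let t : R := x (Fin.castAdd e 0)
    have ht : t ∈ maximalIdeal R := hx ▸ Ideal.subset_span ⟨_, rfl⟩
    have ht2 : t ∉ maximalIdeal R ^ 2 := DivStalk.notMem_sq x hd hx _
    have ht0 : t ≠ 0 := fun h => ht2 (h ▸ Ideal.zero_mem _)
    have htI : Ideal.span {t} ≤ I := by
      rw [Ideal.span_singleton_le_iff_mem, hI]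
      exact Ideal.subset_span ⟨0, rfl⟩
    obtain ⟨hreg1, hdim1⟩ := CalgA.RegBasic.quotient_of_notMem_sq t ht ht2
    let J : Ideal (R ⧸ Ideal.span {t}) := I.map (Ideal.Quotient.mk (Ideal.span {t}))
    let ε : ((R ⧸ Ideal.span {t}) ⧸ J) ≃+* (R ⧸ I) := DoubleQuot.quotQuotEquivQuotOfLE htI
    have hJ : IsRegularLocalRing ((R ⧸ Ideal.span {t}) ⧸ J) := IsRegularLocalRing.of_ringEquiv ε.symm
    have hdimJ : ringKrullDim ((R ⧸ Ideal.span {t}) ⧸ J) + c = ringKrullDim (R ⧸ Ideal.span {t}) := by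
      obtain ⟨a, ha⟩ : ∃ a : ℕ, ringKrullDim (R ⧸ I) = a :=
        ⟨_, (IsRegularLocalRing.spanFinrank_maximalIdeal (R := R ⧸ I)).symm⟩
      obtain ⟨b, hb⟩ : ∃ b : ℕ, ringKrullDim (R ⧸ Ideal.span {t}) = b :=
        ⟨_, (IsRegularLocalRing.spanFinrank_maximalIdeal (R := R ⧸ Ideal.span {t})).symm⟩
      rw [ringKrullDim_eq_of_ringEquiv ε, ha, hb]
      rw [← hdim1, ha, hb] at hdim
      have : a + (c + 1) = b + 1 := by exact_mod_cast hdim
      have h' : a + c = b := by omega
      exact_mod_cast h'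
    -- the open complement of the divisor
    let jZ := ((Spec (CommRingCat.of R)).basicOpen ((Scheme.ΓSpecIso (CommRingCat.of R)).inv t)).ι
    have hjZ : Set.range jZ = (Set.range (clo t))ᶜ := by
      ext z
      rw [Scheme.Opens.range_ι, Set.mem_compl_iff, range_clo]
      have : (Spec (CommRingCat.of R)).basicOpen ((Scheme.ΓSpecIso (CommRingCat.of R)).inv t) =
        PrimeSpectrum.basicOpen t := basicOpen_eq_of_affine (R := CommRingCat.of R) t
      rw [this]
      rfl
    let W : (Spec (CommRingCat.of (R ⧸ Ideal.span {t}))).Opens := (clo t) ⁻¹ᵁ j.opensRange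
    have hr : Set.range W.ι = (clo t) ⁻¹' Set.range j := by
      rw [Scheme.Opens.range_ι]
      rfl
    obtain ⟨hA, ⟨eA⟩⟩ := div_mu (isRegularLocalRing_stalk R) (isUnit_top hn) (clo t)
      (fun y => DivStalk.locPure_of_divPure hP (isUnit_top hn) _) (isRegularLocalRing_stalk _) (codim_clo t ht0) jZ hjZ
    have hn1 : IsUnit (n : R ⧸ Ideal.span {t}) := by
      have := hn.map (Ideal.Quotient.mk (Ideal.span {t}))
      rwa [map_natCast] at this
    refine Sga4h.LocCohLocal.isZero_locCoh_of_local j _ _ (exists_local_mu' n (isUnit_top hn)) q ?_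
    refine isZero_locCoh_comp (clo t) jZ j W.ι ?_ hr _ 2 (2 * c) hA _ eA (fun p hp => ?_) q (by omega)
    · intro z hz
      rw [hjZ, Set.mem_compl_iff, range_clo] at hz
      exact (hj z).2 fun h => hz (h (htI (Ideal.mem_span_singleton_self t)))
    · refine ih (R ⧸ Ideal.span {t}) hn1 J hdimJ W.ι (fun z => ?_) hp
      rw [hr, Set.mem_preimage, hj]
      change ¬ I ≤ z.asIdeal.comap (Ideal.Quotient.mk (Ideal.span {t})) ↔ _
      rw [← Ideal.map_le_iff_le_comap]

/-- **Purity: vanishing of the local cohomology sheaves of `ℤ/n` in degrees `≠ 2c`**, regular pairs. -/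
theorem isZero_locCoh {n : ℕ} (hP : DivPure.{u} n) {X Y U : Scheme.{u}} [IsLocallyNoetherian X]
    (i : Y ⟶ X) [IsClosedImmersion i] (hreg : ∀ y : Y, IsRegularLocalRing (X.presheaf.stalk (i y)))
    (hYreg : ∀ y : Y, IsRegularLocalRing (Y.presheaf.stalk y))
    (j : U ⟶ X) [IsOpenImmersion j] (hij : Set.range j = (Set.range i)ᶜ) (c : ℕ)
    (hcodim : ∀ y : Y, ringKrullDim (X.presheaf.stalk (i y)) = ringKrullDim (Y.presheaf.stalk y) + c)
    (hn0 : n ≠ 0) (hn : IsUnit (n : Γ(X, ⊤))) (q : ℕ) (hq : q ≠ 2 * c) :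
    IsZero ((EtDual.locCoh j q).obj (EtCoh.const X (ZMod n))) := by
  let X' : Option Y → Scheme.{u} := fun a => a.elim U fun y => Spec (X.presheaf.stalk (i y))
  let v : ∀ a, X' a ⟶ X := fun a => match a with
    | none => j
    | some y => X.fromSpecStalk (i y)
  refine Groth.Agent.Etcore.PullJoint.isZero_of_pull v (fun x => ?_) _ fun a => ?_
  · by_cases hx : x ∈ Set.range j
    · obtain ⟨w, hw⟩ := hx
      exact ⟨none, w, hw⟩
    · rw [hij, Set.notMem_compl_iff] at hx
      obtain ⟨y, rfl⟩ := hx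
      exact ⟨some y, IsLocalRing.closedPoint _, Scheme.fromSpecStalk_closedPoint⟩
  · match a with
    | none => exact Groth.Agent.Sga4B.ClosedSupp.isZero_pull_locCoh j q _
    | some y =>
      have hR := hreg y
      have hY := hYreg y
      let g : Spec (X.presheaf.stalk (i y)) ⟶ X := X.fromSpecStalk (i y)
      have hsurj : Function.Surjective (i.stalkMap y).hom := i.stalkMap_surjective y
      let ε := RingHom.quotientKerEquivOfSurjective hsurj
      have hregI : IsRegularLocalRing (X.presheaf.stalk (i y) ⧸ RingHom.ker (i.stalkMap y).hom) :=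
        IsRegularLocalRing.of_ringEquiv ε.symm
      have hdim : ringKrullDim (X.presheaf.stalk (i y) ⧸ RingHom.ker (i.stalkMap y).hom) + c =
          ringKrullDim (X.presheaf.stalk (i y)) := by
        rw [ringKrullDim_eq_of_ringEquiv ε]
        exact (hcodim y).symm
      have hnR : IsUnit (n : X.presheaf.stalk (i y)) := by
        have h1 := hn.map (X.presheaf.germ ⊤ (i y) trivial).hom
        rwa [map_natCast] at h1
      have hT : EtPBC.IsTorsionInvertibleOn X (EtCoh.const X (ZMod n)) := by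
        have : NeZero n := ⟨hn0⟩
        intro V s x
        exact ⟨V, 𝟙 V, n, ⟨x, rfl⟩, hn, Groth.Agent.Sga2lef.H101.AffOrigin.killedBy_const X n V _⟩
      obtain ⟨e⟩ := Groth.Agent.Sga2lef.H101.LocCohBC.nonempty_pull_locCoh_iso
        (RegMor.ubc_fromSpecStalk X (i y) (𝟙 X)).bcMor
        (IsPullback.of_hasPullback j g) (EtCoh.const X (ZMod n)) hT q
      refine IsZero.of_iso ?_ e
      refine IsZero.of_iso ?_ ((EtDual.locCoh (pullback.snd j g) q).mapIso
        (Groth.Agent.Sga4B.Pure.pullConst g (ZMod n)))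
      refine isZero_locCoh_local hP c (X.presheaf.stalk (i y)) hnR (RingHom.ker (i.stalkMap y).hom) hdim
        (pullback.snd j g) (fun z => ?_) hq
      rw [OpenSq.mem_range_snd, ← ClosedStalk.mem_range_iff]
      change g z ∈ Set.range j ↔ _
      rw [hij]
      rfl

end K3.PureVan
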